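import Groth.Agent.H28Curve.DegOneIso
import Groth.Agent.H28Curve.DegOnePoint
import Groth.Agent.H28Curve.ProjLine
import Groth.Agent.H28Pinch.ContractionUnique
import Groth.Agent.H11P1n.ToPn
import Groth.Agent.H22Alg.GlobalFunctions
import Groth.Agent.H7Lim.Approx.GlueRing
import Groth.Agent.S0443

/-!
# A curve having a pencil of degree one is the projective line (no hypothesis on the genus)
-/

set_option autoImplicit false
set_option linter.style.haveILetI false
set_option backward.isDefEq.respectTransparency.types false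
universe u

open CategoryTheory CategoryTheory.Limits AlgebraicGeometry Opposite TopologicalSpace
open Groth.Agent.H11Ample (gen mem_gen_iff)

namespace Groth.Agent.H29GenusZero

open Groth.Agent.H28Curve

variable {k : Type u} [Field k] {X : Scheme.{u}} [X.Over (Spec (CommRingCat.of k))]
  [IsProper (X ↘ Spec (CommRingCat.of k))] [IsIntegral X]

/-- The global functions are the constants. -/
theorem constants_of_pencil (hdim : topologicalKrullDim X ≤ 1) {L : X.Modules}
    (hL : PicF.IsInvertible L) (hdeg : Curv2.deg k X L 1 = 1) (h2' : 2 ≤ Module.finrank k (Coh.HH X L 0)) :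
    (∀ φ : Γ(X, ⊤), ∃ a : k, φ = H10Coh.globA (A := k) (X := X) a) ∧
      Module.finrank k (Coh.HH X (Coh.structureModule X) 0) = 1 := by
  have hF := H22Alg.GlobalFunctions.isField_of_universallyClosed (X ↘ Spec (CommRingCat.of k))
  haveI : Nontrivial (Coh.HH X L 0) := Module.nontrivial_of_finrank_pos (R := k) (by omega)
  obtain ⟨g, hg⟩ := H29RR.exists_global_ne_zero L inferInstance
  obtain ⟨x, -, -, -, v₀, hv₀, hspan⟩ := exists_zero (k := k) hdim hL hdeg hg
  have hconst : ∀ φ : Γ(X, ⊤), ∃ a : k, φ = H10Coh.globA (A := k) (X := X) a := by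
    intro φ
    obtain ⟨a, c, hac⟩ := hspan (X.presheaf.germ ⊤ x trivial φ • v₀)
    refine ⟨a, sub_eq_zero.1 (by_contra fun hne => ?_)⟩
    obtain ⟨ψ, hψ⟩ := hF.mul_inv_cancel hne
    have h1 := congrArg (X.presheaf.germ ⊤ x trivial).hom hψ
    rw [map_mul, map_one, map_sub] at h1
    refine hv₀ ((X.presheaf.germ ⊤ x trivial).hom ψ * c) ?_
    rw [mul_smul, eq_sub_iff_add_eq'.2 hac.symm]
    show v₀ = _ • (X.presheaf.germ ⊤ x trivial φ • v₀ - H25Par.constStalk (k := k) x a • v₀)
    rw [← sub_smul, ← mul_smul, mul_comm]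
    exact ((congrArg (· • v₀) h1).trans (one_smul _ v₀)).symm
  refine ⟨hconst, ?_⟩
  haveI : Nontrivial Γ(X, ⊤) := ⟨hF.exists_pair_ne⟩
  let S := H29RR.sec (Coh.structureModule X)
  refine finrank_eq_one (S.symm (show Γ(Coh.structureModule X, ⊤) from (1 : Γ(X, ⊤)))) (fun h0 => ?_) fun w => ?_
  · have := congrArg S h0
    rw [AddEquiv.apply_symm_apply, map_zero] at this
    exact one_ne_zero (α := Γ(X, ⊤)) this
  · obtain ⟨a, ha⟩ := hconst (show Γ(X, ⊤) from S w)
    refine ⟨a, S.injective ?_⟩
    rw [H29RR.sec_smul, AddEquiv.apply_symm_apply]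
    show H10Coh.globA (A := k) (X := X) a * (1 : Γ(X, ⊤)) = (show Γ(X, ⊤) from S w)
    rw [mul_one]
    exact ha.symm

/-- A proper integral curve with a pencil of degree one is `P¹`. -/
theorem exists_iso_of_pencil (hdim : topologicalKrullDim X ≤ 1) {L : X.Modules}
    (hL : PicF.IsInvertible L) (hdeg : Curv2.deg k X L 1 = 1) (h2' : 2 ≤ Module.finrank k (Coh.HH X L 0)) :
    ∃ e : X ≅ CohB1.ProjSpace 1 k,
      e.hom ≫ CohB1.ProjSpace.toSpec 1 k = X ↘ Spec (CommRingCat.of k) ∧
        Nonempty ((Scheme.Modules.pullback e.hom).obj (Twist.twistProjSpace 1 k 1) ≅ L) := by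
  classical
  haveI := H29RR.isNoetherian_of_proper (k := k) (X := X)
  obtain ⟨hconst, h0⟩ := constants_of_pencil (k := k) hdim hL hdeg h2'
  have hnt : Nontrivial (Coh.HH X L 0) := Module.nontrivial_of_finrank_pos (R := k) (by omega)
  obtain ⟨g, hg⟩ := H29RR.exists_global_ne_zero L hnt
  obtain ⟨x, hxcl, hgen, hext, v₀, hv₀, hspan⟩ := exists_zero (k := k) hdim hL hdeg hg
  set γ := L.presheaf.germ ⊤ x trivial g with hγ
  obtain ⟨m, hm⟩ : ∃ m : Γ(L, ⊤), ∀ c : X.presheaf.stalk x, L.presheaf.germ ⊤ x trivial m ≠ c • γ := by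
    by_contra hc
    push Not at hc
    have hle : Module.finrank k (Coh.HH X L 0) ≤ 1 := by
      refine finrank_le_one ((H29RR.sec L).symm g) fun w => ?_
      obtain ⟨φ, hφ⟩ := hext (H29RR.sec L w) (hc _)
      obtain ⟨a, rfl⟩ := hconst φ
      exact ⟨a, (H29RR.sec L).injective (by rw [H29RR.sec_smul, AddEquiv.apply_symm_apply, hφ])⟩
    omega
  set μ := L.presheaf.germ ⊤ x trivial m with hμ
  obtain ⟨a₀, c₀, hac₀⟩ := hspan μ
  have ha₀ : a₀ ≠ 0 := fun h => hm c₀ (by rw [hac₀, h, map_zero, zero_smul, zero_add])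
  have hv₀μ : v₀ = H25Par.constStalk (k := k) x a₀⁻¹ • μ - (H25Par.constStalk (k := k) x a₀⁻¹ * c₀) • γ := by
    rw [hac₀, smul_add, ← mul_smul, ← mul_smul, ← map_mul, inv_mul_cancel₀ ha₀, map_one, one_smul]
    abel
  have hdec : ∀ v : L.presheaf.stalk x, ∃ (a : k) (c : X.presheaf.stalk x),
      v = H25Par.constStalk (k := k) x a • μ + c • γ := by
    intro v
    obtain ⟨a, c, rfl⟩ := hspan v
    refine ⟨a * a₀⁻¹, c - H25Par.constStalk (k := k) x a * (H25Par.constStalk (k := k) x a₀⁻¹ * c₀), ?_⟩
    rw [hv₀μ]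
    simp only [map_mul, sub_smul, smul_sub, mul_smul]
    abel
  have hxgen : x ∉ gen L g := fun h => (hgen x).1 h rfl
  obtain ⟨hf, hfn, hrk⟩ := H25Par.finrank_stalk (H29RR.rank_one_of_isInvertible hL) x
  haveI := hf; haveI := hfn
  let e := LinearEquiv.ofFinrankEq (R := X.presheaf.stalk x) (L.presheaf.stalk x) (X.presheaf.stalk x)
    (hrk.trans (Module.finrank_self _).symm)
  have hgenx : ∀ v, IsUnit (e v) → Function.Bijective fun r : X.presheaf.stalk x => r • v := fun v hv => by
    obtain ⟨u, hu⟩ := hv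
    refine ⟨fun a b hab => ?_, fun w => ⟨e w * ↑u⁻¹, e.injective ?_⟩⟩
    · have h := congrArg e (show a • v = b • v from hab)
      rw [map_smul, map_smul, smul_eq_mul, smul_eq_mul] at h
      exact (hu ▸ u.isUnit : IsUnit (e v)).mul_right_cancel h
    · rw [map_smul, smul_eq_mul, mul_assoc, ← hu, Units.inv_mul, mul_one]
  have hγnu : ¬ IsUnit (e γ) := fun h => hxgen ((mem_gen_iff hL g x).2 (hgenx γ h))
  have hμu : IsUnit (e μ) := by
    obtain ⟨a, c, hac⟩ := hdec (e.symm 1)
    have h := congrArg e hac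
    rw [LinearEquiv.apply_symm_apply, map_add, map_smul, map_smul, smul_eq_mul, smul_eq_mul] at h
    rcases IsLocalRing.isUnit_or_isUnit_of_add_one h.symm with h' | h'
    · exact isUnit_of_mul_isUnit_right h'
    · exact absurd (isUnit_of_mul_isUnit_right h') hγnu
  have hxm : x ∈ gen L m := (mem_gen_iff hL m x).2 (hgenx μ hμu)
  let v : Fin 2 → Γ(L, ⊤) := ![g, m]
  obtain ⟨r, hr, hτ, hpre, hrat⟩ := H11P1n.exists_toPn_ratio (n := 1) (X ↘ Spec (CommRingCat.of k)) hL v
    fun y => by
      rcases eq_or_ne y x with rfl | hy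
      · exact ⟨1, hxm⟩
      · exact ⟨0, (hgen y).2 hy⟩
  let P := CohB1.ProjSpace 1 k
  obtain ⟨hPi, hPn, hPd⟩ := projLine_facts k
  haveI : IsIntegral P := hPi
  let D : Fin 2 → P.Opens := fun i => Proj.basicOpen (CohB1.polyGrading 1 k) (MvPolynomial.X i)
  have hD0 : ∀ y, r y ∈ D 0 ↔ y ≠ x := fun y => by
    show y ∈ r ⁻¹ᵁ D 0 ↔ _
    rw [hpre 0]
    exact hgen y
  have hηx : genericPoint X ≠ x := by
    intro h
    obtain ⟨-, hη⟩ := H29RR.mono_homOfGlobal hL hg
    refine hxgen (h ▸ ?_)
    refine (mem_gen_iff hL g _).2 ?_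
    obtain ⟨hf', hfn', hrk'⟩ := H25Par.finrank_stalk (H29RR.rank_one_of_isInvertible hL) (genericPoint X)
    letI : Field (X.presheaf.stalk (genericPoint X)) := inferInstanceAs (Field X.functionField)
    have hγη := H29RR.germ_ne_zero
      (H16Derived.KFlat.Stalk.isCoh_of_isFinLocFree (H28Pinch.isFinLocFree_of_isInvertible hL)).1
      (H25Par.isTorsionFree_of_locFree (H28Pinch.isFinLocFree_of_isInvertible hL)) hg
    refine ⟨smul_left_injective _ hγη, fun w => ?_⟩
    exact exists_smul_eq_of_finrank_eq_one hrk' hγη w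
  have hne : r (genericPoint X) ≠ r x := fun h => (hD0 x).1 (h ▸ (hD0 _).2 hηx) rfl
  haveI : IsProper r := by
    haveI : IsProper (r ≫ CohB1.ProjSpace.toSpec 1 k) := by rw [hr]; infer_instance
    haveI : IsSeparated (CohB1.ProjSpace.toSpec 1 k) := by
      haveI : IsProper (CohB1.ProjSpace.toSpec 1 k) := H27Weil.isProper_toSpec 1 k
      infer_instance
    exact IsProper.of_comp r (CohB1.ProjSpace.toSpec 1 k)
  have hsp : r (genericPoint X) ⤳ r x := ((genericPoint_spec X).specializes trivial).map r.continuous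
  have hdom : r (genericPoint X) = genericPoint P := by
    by_contra hgen'
    let C : Fin 3 → IrreducibleCloseds P := ![⟨closure {r x}, isIrreducible_singleton.closure, isClosed_closure⟩,
      ⟨closure {r (genericPoint X)}, isIrreducible_singleton.closure, isClosed_closure⟩,
      ⟨closure {genericPoint P}, isIrreducible_singleton.closure, isClosed_closure⟩]
    have hlt : ∀ a b : P, a ⤳ b → a ≠ b → closure ({b} : Set P) ⊂ closure {a} := fun a b hab hne' =>
      ⟨specializes_iff_closure_subset.1 hab, fun h => hne' (hab.antisymm (specializes_iff_closure_subset.2 h)).eq⟩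
    let ser : LTSeries (IrreducibleCloseds P) :=
      { length := 2
        toFun := C
        step := fun i => by
          fin_cases i
          · exact hlt _ _ hsp hne
          · exact hlt _ _ ((genericPoint_spec P).specializes trivial) (Ne.symm hgen') }
    have := Order.LTSeries.length_le_krullDim ser
    rw [show Order.krullDim (IrreducibleCloseds P) = _ from hPd] at this
    exact absurd this (by simp [ser])
  haveI : LocallyQuasiFinite r := by
    refine locallyQuasiFinite_iff_finite_preimage_singleton.2 fun z => ?_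
    have hbad : ∀ z, IsClosed ({z} : Set P) → genericPoint X ∉ r ⁻¹' {z} := fun z hz hmem => by
      refine hne ?_
      have h : r x ∈ ({z} : Set P) := specializes_iff_forall_closed.1 hsp {z} hz hmem
      exact (show r (genericPoint X) = z from hmem).trans h.symm
    by_cases hz : IsClosed ({z} : Set P)
    · exact (H25Par.finite_of_isClosed_of_notMem hdim (hz.preimage r.continuous) (hbad z hz)).1
    · refine (Set.finite_singleton (genericPoint X)).subset fun y hy => by_contra fun hne' => hz ?_
      obtain ⟨-, hcl⟩ := H25Par.finite_of_isClosed_of_notMem hdim (S := closure ({y} : Set X)) isClosed_closure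
        (fun h => hne' ((specializes_iff_mem_closure.2 h).antisymm ((genericPoint_spec X).specializes trivial)).eq)
      rw [← show r y = z from hy, ← Set.image_singleton]
      exact r.isClosedMap _ (hcl y (subset_closure rfl))
  haveI : IsFinite r := (IsFinite.iff_isProper_and_locallyQuasiFinite r).2 ⟨inferInstance, inferInstance⟩
  have hfin := S0443.result r x fun x' hx' => by_contra fun h => (hD0 x).1 (hx' ▸ (hD0 x').2 h) rfl
  let A := P.presheaf.stalk (r x)
  let B := X.presheaf.stalk x
  let φ : A →+* B := (r.stalkMap x).hom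
  have hx1 : x ∈ r ⁻¹ᵁ D 1 := by rw [hpre 1]; exact hxm
  let ρ := H11Tilde.ratio (CohB1.polyGrading 1 k) (H11Ample.X_mem (R := k) (1 : Fin 2)) (H11Ample.X_mem (0 : Fin 2))
  let s : A := P.presheaf.germ (D 1) (r x) hx1 ρ
  have hγs : γ = φ s • μ := by
    have h := congrArg (L.presheaf.germ _ x hx1) (hrat 1 0)
    erw [H17.AssPts.germ_smul', TopCat.Presheaf.germ_res_apply, TopCat.Presheaf.germ_res_apply] at h
    refine h.trans (congrArg (· • μ) ?_)
    exact (Scheme.Hom.germ_stalkMap_apply r (D 1) x hx1 ρ).symm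
  have hs : s ∈ IsLocalRing.maximalIdeal A := fun hu => hγnu (by
    rw [hγs, map_smul, smul_eq_mul]
    exact (hu.map φ).mul hμu)
  have hc : ∀ a : k, ∃ a' : A, φ a' = H25Par.constStalk (k := k) x a := fun a => by
    refine ⟨P.presheaf.germ ⊤ (r x) trivial (ProjUP.toGlobal (CohB1.ProjSpace.toSpec 1 k) a), ?_⟩
    refine (Scheme.Hom.germ_stalkMap_apply r ⊤ x trivial _).trans ?_
    show _ = X.presheaf.germ ⊤ x trivial (Coh.toGlobal (X ↘ Spec (CommRingCat.of k)) a)
    rw [← hr]
    rfl
  have hφ : Function.Surjective φ := by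
    letI : Algebra A B := φ.toAlgebra
    haveI : Module.Finite A B := hfin
    let N : Submodule A B := LinearMap.range (Algebra.linearMap A B)
    have key : (⊤ : Submodule A B) ≤ N ⊔ IsLocalRing.maximalIdeal A • (⊤ : Submodule A B) := by
      intro b _
      obtain ⟨a, c, hac⟩ := hdec (b • μ)
      obtain ⟨a', ha'⟩ := hc a
      have hb : b = φ a' + φ s * c := by
        have h := congrArg e hac
        rw [hγs, map_add, map_smul, map_smul, map_smul, map_smul, smul_eq_mul, smul_eq_mul, smul_eq_mul, smul_eq_mul,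
          ← mul_assoc, ← add_mul] at h
        rw [hμu.mul_right_cancel h, ha', mul_comm c]
      rw [hb]
      exact Submodule.add_mem_sup ⟨a', rfl⟩ (Submodule.smul_mem_smul hs (Submodule.mem_top (x := c)))
    have htop := Submodule.le_of_le_smul_of_le_jacobson_bot Module.Finite.fg_top
      (IsLocalRing.maximalIdeal_le_jacobson ⊥) key
    intro b
    exact htop (Submodule.mem_top (x := b))
  have hbir : Function.Bijective (r.stalkMap (genericPoint X)) := by
    refine ⟨?_, fun w => ?_⟩
    · have hu : ∀ a : P.presheaf.stalk (r (genericPoint X)), a ≠ 0 → IsUnit a := by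
        rw [hdom]
        intro a ha
        exact (Ne.isUnit ha : IsUnit (a : P.functionField))
      refine (injective_iff_map_eq_zero (r.stalkMap (genericPoint X)).hom).2 fun a ha => by_contra fun hne' => ?_
      exact not_isUnit_zero (ha ▸ (hu a hne').map (r.stalkMap (genericPoint X)).hom)
    · obtain ⟨b, b', hb', hw⟩ := IsFractionRing.div_surjective B (show X.functionField from w)
      obtain ⟨a, rfl⟩ := hφ b
      obtain ⟨a', rfl⟩ := hφ b'
      have hspec : genericPoint X ⤳ x := (genericPoint_spec X).specializes trivial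
      let σ := P.presheaf.stalkSpecializes (hspec.map r.continuous)
      have hcomm : ∀ a, r.stalkMap (genericPoint X) (σ a) = algebraMap B X.functionField (φ a) := fun a =>
        (Scheme.Hom.stalkSpecializes_stalkMap_apply r _ _ hspec a :)
      have hu : IsUnit (σ a') := by
        by_contra hnu
        have h1 : r.stalkMap (genericPoint X) (σ a') ∈ IsLocalRing.maximalIdeal (X.presheaf.stalk (genericPoint X)) :=
          fun hu => hnu (isUnit_of_map_unit (r.stalkMap (genericPoint X)).hom _ hu)
        rw [hcomm] at h1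
        refine h1 ?_
        exact (Ne.isUnit (IsFractionRing.to_map_ne_zero_of_mem_nonZeroDivisors hb') :
          IsUnit (algebraMap B X.functionField (φ a')))
      obtain ⟨u, hu'⟩ := hu
      refine ⟨σ a * ↑u⁻¹, ?_⟩
      rw [map_mul, hcomm, ← hw, div_eq_mul_inv]
      refine congrArg _ (inv_eq_of_mul_eq_one_right ?_).symm
      rw [← hcomm, ← hu', ← map_mul, Units.mul_inv, map_one]
  have hbij := H28Pinch.bijective_app_of_birational r hPn hdom hbir
  haveI := isIso_of_bijective_app r hbij
  exact ⟨asIso r, hr, hτ⟩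

end Groth.Agent.H29GenusZero
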