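import Groth.Agent.H28Curve.DegOneIso
import Groth.Agent.H28Int.FieldExt
import Groth.Agent.H7Flat.GenericGeomReduced
import Groth.Agent.H19Grp.SepPoints
import Groth.Agent.H29RR.PointAux
import Groth.Agent.H16Derived.KFlat.PerfCoh
import Groth.Agent.S14512
import Groth.Agent.S1536
import Groth.Agent.S4642
import Groth.Agent.H22Alg.VarDim

/-!
# Curves of genus zero: smoothness, degree-one modules, the projective line
-/

set_option autoImplicit false
set_option linter.style.haveILetI false

universe u

open CategoryTheory CategoryTheory.Limits AlgebraicGeometry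
open Groth.Agent.H29RR

namespace Groth.Agent.H29GenusZero

attribute [local instance 10000] H10Coh.hasSheafifyAb H10Coh.hasWeakSheafifyAb H10Coh.hasExtAb H10Coh.enoughInjAb
attribute [local instance] Curv2.resAlgebra

/-- Geometrically irreducible implies geometrically connected. -/
theorem geometricallyConnected_of_irreducible {X S : Scheme.{u}} (f : X ⟶ S) [GeometricallyIrreducible f] :
    GeometricallyConnected f :=
  ⟨fun K _ b Y g h hsq => by
    haveI := GeometricallyIrreducible.geometrically_irreducibleSpace (f := f) _ _ _ hsq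
    infer_instance⟩

variable {k : Type u} [Field k] {X : Scheme.{u}} [X.Over (Spec (CommRingCat.of k))]
  [IsProper (X ↘ Spec (CommRingCat.of k))]

/-- A geometrically integral proper curve of genus zero is smooth. -/
theorem smooth_of_genus_zero [GeometricallyIntegral (X ↘ Spec (CommRingCat.of k))]
    (hdim : topologicalKrullDim X = 1) (hg : Curv2.genus k X = 0) : Smooth (X ↘ Spec (CommRingCat.of k)) := by
  let K := AlgebraicClosure k
  let f := X ↘ Spec (CommRingCat.of k)
  let b := Spec.map (CommRingCat.ofHom (algebraMap k K))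
  let Z := pullback f b
  letI : Z.Over (Spec (CommRingCat.of K)) := ⟨pullback.snd f b⟩
  have hsq : IsPullback (pullback.fst f b) (Z ↘ Spec (CommRingCat.of K)) f b := IsPullback.of_hasPullback f b
  haveI : IsProper (Z ↘ Spec (CommRingCat.of K)) := MorphismProperty.of_isPullback hsq inferInstance
  haveI : IsIntegral Z := GeometricallyIntegral.geometrically_isIntegral _ _ _ hsq
  haveI := isNoetherian_of_proper (k := k) (X := X)
  have hdZ : topologicalKrullDim Z = 1 :=
    (Groth.Agent.S4642.result (K := K) f).trans hdim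
  have hgZ : Curv2.genus K Z = 0 := by
    rw [Curv2.genus,
      ← (hhIso (k := K) (H16Derived.KFlat.Stalk.structurePullbackIso (pullback.fst f b)) 1).finrank_eq,
      H28Int.FieldExt.finrank_HH_bc K hsq (H10Coh.isCoh_structureModule' X) 1]
    exact hg
  haveI hs : Smooth (Z ↘ Spec (CommRingCat.of K)) := Groth.Agent.S14512.result K Z hdZ hgZ
  haveI : Surjective b := ⟨fun x => ⟨IsLocalRing.closedPoint _, Subsingleton.elim _ _⟩⟩
  haveI : Flat b := by
    rw [HasRingHomProperty.Spec_iff (P := @Flat)]
    exact RingHom.flat_algebraMap_iff.2 inferInstance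
  haveI : Surjective (pullback.fst f b) := MorphismProperty.pullback_fst f b ‹_›
  rw [← Scheme.Hom.smoothLocus_eq_top_iff, eq_top_iff]
  rintro x -
  obtain ⟨z, rfl⟩ := (pullback.fst f b).surjective x
  refine H17.LocusBC.mem_smoothLocus_of_flat_baseChange hsq z ?_
  rw [(Z ↘ Spec (CommRingCat.of K)).smoothLocus_eq_top]
  trivial

/-- A rational point is a closed point with trivial residue extension, and its ideal is that of the point. -/
theorem section_point (σ : Spec (CommRingCat.of k) ⟶ X) (hσ : σ ≫ (X ↘ Spec (CommRingCat.of k)) = 𝟙 _) :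
    ∃ x : X, IsClosed ({x} : Set X) ∧ Module.finrank k (X.residueField x) = 1 ∧ σ.ker = ptIdeal x ∧
      ∀ p, σ p = x := by
  let x := σ (IsLocalRing.closedPoint k)
  let p := X ↘ Spec (CommRingCat.of k)
  haveI : IsClosedImmersion σ := by
    haveI : IsClosedImmersion (σ ≫ p) := by rw [hσ]; infer_instance
    exact IsClosedImmersion.of_comp σ p
  have hpt : ∀ q, σ q = x := fun q => congrArg σ (Subsingleton.elim (α := PrimeSpectrum k) q _)
  have hcl : IsClosed ({x} : Set X) := by
    convert σ.isClosedEmbedding.isClosed_range using 1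
    ext y
    exact ⟨fun h => ⟨IsLocalRing.closedPoint k, (hpt _).trans (Set.mem_singleton_iff.1 h).symm⟩, fun ⟨q, hq⟩ => hq ▸ hpt q⟩
  let d := Scheme.descResidueField (Scheme.stalkClosedPointTo σ)
  have hd : Spec.map d ≫ X.fromSpecResidueField x = σ :=
    Scheme.descResidueField_stalkClosedPointTo_fromSpecResidueField k X σ
  have hd' : ∀ c : k, d.hom (algebraMap k (X.residueField x) c) = c := by
    intro c
    have h2 : CommRingCat.ofHom (algebraMap k (X.residueField x)) ≫ d = 𝟙 _ := by
      refine Spec.map_injective ?_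
      rw [Spec.map_comp, Spec.map_id, ← hσ, ← hd, Category.assoc]
      congr 1
      exact (H22Alg.VarDim.fromSpecResidueField_over k X x).symm
    exact RingHom.congr_fun (congrArg CommRingCat.Hom.hom h2) c
  have hbij : Function.Bijective d.hom := ⟨d.hom.injective, fun c => ⟨_, hd' c⟩⟩
  refine ⟨x, hcl, ?_, ?_, hpt⟩
  · let e : X.residueField x ≃ₐ[k] k := AlgEquiv.ofBijective { d.hom with commutes' := hd' } hbij
    exact e.toLinearEquiv.finrank_eq.trans (Module.finrank_self k)
  · haveI : IsIso d := (ConcreteCategory.isIso_iff_bijective d).2 hbij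
    rw [← hd, Scheme.Hom.ker_comp_of_isIso]

variable [IsIntegral X]

/-- A closed point with a regular local ring gives an invertible module of the degree of its residue field. -/
theorem exists_deg_residue (hdim : topologicalKrullDim X = 1) {x : X} (hx : IsClosed ({x} : Set X))
    [IsRegularLocalRing (X.presheaf.stalk x)] :
    ∃ L : X.Modules, PicF.IsInvertible L ∧ Curv2.deg k X L 1 = Module.finrank k (X.residueField x) := by
  obtain ⟨L, hL, -, hdeg, -, -⟩ := exists_add_point (k := k) hx (isInvertible_pt_of_regular (k := k) hdim hx)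
    (H11Ample.isInvertible_structureModule (X := X))
  rw [deg_structureModule, zero_add] at hdeg
  exact ⟨L, hL, hdeg⟩

/-- The degrees of invertible modules form a subgroup. -/
noncomputable def degrees (hdim : topologicalKrullDim X ≤ 1) : AddSubgroup ℤ where
  carrier := {d | ∃ L : X.Modules, PicF.IsInvertible L ∧ Curv2.deg k X L 1 = d}
  zero_mem' := ⟨_, H11Ample.isInvertible_structureModule, deg_structureModule⟩
  add_mem' := by
    rintro _ _ ⟨L, hL, rfl⟩ ⟨M, hM, rfl⟩
    exact ⟨_, H11Ample.isInvertible_tensor hL hM, deg_tensor hdim hL hM⟩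
  neg_mem' := by
    rintro _ ⟨L, hL, rfl⟩
    obtain ⟨N, hN, ⟨e⟩⟩ := exists_inverse_comm hL
    refine ⟨N, hN, ?_⟩
    have h := deg_tensor (k := k) hdim hL hN
    rw [deg_congr e, deg_structureModule] at h
    omega

/-- A genus zero curve with a rational point with regular local ring is the projective line. -/
theorem exists_iso_of_section (hdim : topologicalKrullDim X = 1) (hg : Curv2.genus k X = 0)
    (σ : Spec (CommRingCat.of k) ⟶ X) (hσ : σ ≫ (X ↘ Spec (CommRingCat.of k)) = 𝟙 _)
    (hreg : ∀ p, IsRegularLocalRing (X.presheaf.stalk (σ p))) :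
    ∃ e : X ≅ CohB1.ProjSpace 1 k, e.hom ≫ CohB1.ProjSpace.toSpec 1 k = X ↘ (Spec (CommRingCat.of k)) := by
  obtain ⟨x, hx, h1, -, hpt⟩ := section_point σ hσ
  haveI : IsRegularLocalRing (X.presheaf.stalk x) := by
    have h := hreg (IsLocalRing.closedPoint k)
    rwa [hpt] at h
  obtain ⟨L, hL, hdeg⟩ := exists_deg_residue (k := k) hdim hx
  rw [h1, Nat.cast_one] at hdeg
  obtain ⟨e, he, -⟩ := H28Curve.exists_iso_projLine (k := k) hdim.le hg hL hdeg
  exact ⟨e, he⟩

end Groth.Agent.H29GenusZero
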